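import Cfsg.Agent.H16.J4Low.Word

/-!
Packed matrices in the image of the 112-dimensional representation of the presented group J4.
-/

set_option autoImplicit false

namespace Cfsg.Agent.H54.Classes

open Cfsg.Spor Cfsg.Agent.H45.J4Mat Cfsg.Agent.H45.J4Rep Cfsg.Agent.H16.J4Low

/-- The packed matrix is the image of an element. -/
def Has (n : ℕ) : Prop := ∃ g : J4, Val (rho g) n

theorem has_x : Has xN := ⟨_, val_x⟩

theorem has_y : Has yN := ⟨_, val_y⟩

theorem has_yi : Has yiN := ⟨_, val_yi⟩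

theorem has_t : Has tN := ⟨_, val_t⟩

theorem Has.mul {a b c : ℕ} (ha : Has a) (hb : Has b) (hc : Nat.beq (mulN 112 a b) c = true) : Has c := by
  obtain ⟨g, hg⟩ := ha
  obtain ⟨h, hh⟩ := hb
  exact ⟨g * h, val_map_mul hg hh hc⟩

end Cfsg.Agent.H54.Classes
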